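import Cfsg.Agent.Lib.AutPSU.Group
import Cfsg.Agent.Lib.FormTorus.UnitaryOrders
import Mathlib

/-!
A regular unipotent element of `SU_n(q)` and the frame at the end of its flag.
-/

set_option autoImplicit false
set_option linter.unusedSectionVars false
set_option linter.style.haveILetI false

namespace Cfsg.Agent.SUOddGen

open Cfsg.Agent Cfsg.Agent.AutPSU Matrix

variable {F : Type*} [Field F] [Fintype F] {q : ℕ} [hQ : QField F q] {n : ℕ}

local notation "σ" => qb (F := F) q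
local notation "H" => Cfsg.hermForm n F q
local notation "V" => Fin n → F

/-- The nilpotent part. -/
noncomputable def Nl (u : Cfsg.SU n F q) : Module.End F (Fin n → F) :=
  Matrix.toLinAlgEquiv' (((u : Matrix.SpecialLinearGroup (Fin n) F) : Matrix (Fin n) (Fin n) F) - 1)

theorem Nl_apply (u : Cfsg.SU n F q) (v : V) : Nl u v = app u v - v := by
  rw [Nl, Matrix.toLinAlgEquiv'_apply, Matrix.sub_mulVec, Matrix.one_mulVec]
  rfl

theorem Nl_pow (u : Cfsg.SU n F q) (k : ℕ) : Nl u ^ k = Matrix.toLinAlgEquiv'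
    ((((u : Matrix.SpecialLinearGroup (Fin n) F) : Matrix (Fin n) (Fin n) F) - 1) ^ k) :=
  (map_pow Matrix.toLinAlgEquiv' _ k).symm

theorem Nl_pow_succ (u : Cfsg.SU n F q) (k : ℕ) (v : V) :
    (Nl u ^ (k + 1)) v = (Nl u ^ k) (Nl u v) := by rw [pow_succ, Module.End.mul_apply]

theorem Nl_pow_succ' (u : Cfsg.SU n F q) (k : ℕ) (v : V) :
    (Nl u ^ (k + 1)) v = Nl u ((Nl u ^ k) v) := by rw [pow_succ', Module.End.mul_apply]

/-- There is a regular unipotent element. -/
theorem exists_regular (hn : 2 ≤ n) : ∃ u : Cfsg.SU n F q, Nl u ^ n = 0 ∧ Nl u ^ (n - 1) ≠ 0 := by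
  classical
  obtain ⟨p, hchar⟩ := CharP.exists F
  haveI : Fact p.Prime := ⟨(FiniteField.card F p).choose_spec.1⟩
  haveI := (FormTorus.finrank_UR (F := F) n).1
  obtain ⟨B, g, hB, hg, hgv⟩ := FormTorus.exists_unipotent_model (F := F) (m := n) (by omega)
    (FormTorus.sigma_sigma (F := F) (q := q))
    (show (1 : F) * ((qb (F := F) q : F ≃+* F) : F →+* F) 1 = 1 by simp)
    (FormTorus.exists_sign (F := F) (q := q) (n - 1))
  obtain ⟨Φ, hΦ⟩ := FormTorus.exists_isometry_fin hB (FormTorus.finrank_UR (F := F) n).2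
  set P : Polynomial F := (Polynomial.X - 1) ^ n with hP
  set t := AdjoinRoot.root P with ht
  have hnil : (t - 1) ^ n = 0 := by
    have : AdjoinRoot.mk P P = 0 := AdjoinRoot.mk_self
    rwa [hP, map_pow, map_sub, map_one, AdjoinRoot.mk_X] at this
  have hnz : (t - 1) ^ (n - 1) ≠ 0 := by
    rw [ht, ← AdjoinRoot.mk_X, ← map_one (AdjoinRoot.mk P), ← map_sub, ← map_pow, Ne,
      AdjoinRoot.mk_eq_zero]
    intro h
    have := Polynomial.natDegree_le_of_dvd h
      (pow_ne_zero _ (by rw [← Polynomial.C_1]; exact Polynomial.X_sub_C_ne_zero 1))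
    rw [hP, ← Polynomial.C_1, Polynomial.natDegree_pow, Polynomial.natDegree_pow,
      Polynomial.natDegree_X_sub_C] at this
    omega
  let L : V →ₗ[F] V := (Φ : FormTorus.UR F n →ₗ[F] V) ∘ₗ
    (g : FormTorus.UR F n →ₗ[F] FormTorus.UR F n) ∘ₗ (Φ.symm : V →ₗ[F] FormTorus.UR F n)
  have hL : ∀ v, L v = Φ (t * Φ.symm v) := fun v => by
    show Φ (g (Φ.symm v)) = _
    rw [hgv]
  have hpw : ∀ (j : ℕ) (v : V), ((L - 1) ^ j) v = Φ ((t - 1) ^ j * Φ.symm v) := by
    intro j
    induction j with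
    | zero => intro v; simp
    | succ j ih =>
      intro v
      rw [pow_succ', Module.End.mul_apply, ih, LinearMap.sub_apply, Module.End.one_apply, hL,
        Φ.symm_apply_apply, ← map_sub]
      congr 1
      ring
  have hLn : (L - 1) ^ n = 0 := LinearMap.ext fun v => by rw [hpw, hnil, zero_mul, map_zero]; rfl
  have hdet : LinearMap.det L = 1 := by
    refine FormTorus.det_eq_one_of_unipotent p (b := n) (sub_eq_zero.1 ?_)
    have hle : n ≤ p ^ n := (Nat.lt_pow_self (Fact.out : p.Prime).one_lt).le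
    haveI : CharP (Module.End F V) p := by
      have hinj : Function.Injective (algebraMap F (Module.End F V)) := fun a b h => by
        have h1 := congrArg (fun f : Module.End F V => f (fun _ => 1) ⟨0, by omega⟩) h
        simpa using h1
      exact charP_of_injective_algebraMap hinj p
    rw [← one_pow (M := Module.End F V) (p ^ n), ← sub_pow_char_pow_of_commute _ _ (Commute.one_right L),
      pow_eq_zero_of_le hle hLn]
  let u : Cfsg.SU n F q := ⟨⟨LinearMap.toMatrix' L, by rw [LinearMap.det_toMatrix', hdet]⟩,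
    fun a b => by
      show Cfsg.hermForm n F q (LinearMap.toMatrix' L *ᵥ a) (LinearMap.toMatrix' L *ᵥ b) = _
      rw [LinearMap.toMatrix'_mulVec, LinearMap.toMatrix'_mulVec]
      show Cfsg.hermForm n F q (Φ (g (Φ.symm a))) (Φ (g (Φ.symm b))) = _
      rw [← hΦ, hg, hΦ, Φ.apply_symm_apply, Φ.apply_symm_apply]⟩
  have hu : Nl u = L - 1 := LinearMap.ext fun v => by
    rw [Nl_apply, LinearMap.sub_apply, Module.End.one_apply]
    show LinearMap.toMatrix' L *ᵥ v - v = _
    rw [LinearMap.toMatrix'_mulVec]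
  refine ⟨u, by rw [hu, hLn], fun h => hnz ?_⟩
  have h1 := congrArg (fun f : Module.End F V => Φ.symm (f (Φ 1))) (hu ▸ h)
  simp only [hpw, Φ.symm_apply_apply, mul_one, LinearMap.zero_apply, map_zero] at h1
  exact h1

/-- Vectors at the end of the flag of a regular unipotent element. -/
structure Chain (u : Cfsg.SU n F q) where
  e1 : Fin n → F
  e2 : Fin n → F
  f1 : Fin n → F
  f2 : Fin n → F
  w0 : Fin n → F
  uu : app u e1 = e1
  ue : app u e2 = e2 + e1
  h11 : Cfsg.hermForm n F q e1 e1 = 0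
  h12 : Cfsg.hermForm n F q e1 e2 = 0
  h22 : Cfsg.hermForm n F q e2 e2 = 0
  hf11 : Cfsg.hermForm n F q f1 f1 = 0
  hf12 : Cfsg.hermForm n F q f1 f2 = 0
  hf22 : Cfsg.hermForm n F q f2 f2 = 0
  g11 : Cfsg.hermForm n F q f1 e1 = 1
  g12 : Cfsg.hermForm n F q f1 e2 = 0
  g21 : Cfsg.hermForm n F q f2 e1 = 0
  g22 : Cfsg.hermForm n F q f2 e2 = 1
  hw1 : Cfsg.hermForm n F q w0 e1 = 0
  hw2 : Cfsg.hermForm n F q w0 e2 = 0
  hw3 : Cfsg.hermForm n F q w0 f1 = 0
  hw4 : Cfsg.hermForm n F q w0 f2 = 0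
  hww : Cfsg.hermForm n F q w0 w0 = 1
  ker : ∀ y, Nl u y = 0 → ∃ a : F, y = a • e1
  ima : ∀ b, Cfsg.hermForm n F q b e1 = 0 → Cfsg.hermForm n F q b e2 = 0 →
    ∃ a, Cfsg.hermForm n F q a e1 = 0 ∧ Nl u a = b
  kill : ∀ a, Cfsg.hermForm n F q a e1 = 0 → (Nl u ^ (n - 1)) a = 0
  top : ∃ a, Cfsg.hermForm n F q a e1 = 0 ∧ (Nl u ^ (n - 3)) a = e2

theorem exists_chain (hn : 5 ≤ n) (u : Cfsg.SU n F q) (hN : Nl u ^ n = 0)
    (hN' : Nl u ^ (n - 1) ≠ 0) : Nonempty (Chain u) := by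
  classical
  set N := Nl u with hNdef
  obtain ⟨x0, hx0⟩ : ∃ x0, (N ^ (n - 1)) x0 ≠ 0 := by
    by_contra h
    push Not at h
    exact hN' (LinearMap.ext h)
  have hbig : ∀ k, n ≤ k → ∀ v, (N ^ k) v = 0 := fun k hk v => by
    rw [pow_eq_zero_of_le hk hN]; rfl
  set b : Fin n → V := fun i => (N ^ (i : ℕ)) x0 with hb
  have hcoef : ∀ (g : Fin n → F) (s : ℕ), ∑ i, g i • (N ^ ((i : ℕ) + s)) x0 = 0 →
      ∀ i : Fin n, (i : ℕ) + s < n → g i = 0 := by
    intro g s hg i hi
    by_contra hgi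
    obtain ⟨i0, hi0, hmin⟩ := Finset.exists_min_image (Finset.univ.filter fun j => g j ≠ 0)
      (fun j : Fin n => (j : ℕ)) ⟨i, Finset.mem_filter.2 ⟨Finset.mem_univ _, hgi⟩⟩
    have hi0' : g i0 ≠ 0 := (Finset.mem_filter.1 hi0).2
    have hle : (i0 : ℕ) ≤ (i : ℕ) := hmin i (Finset.mem_filter.2 ⟨Finset.mem_univ _, hgi⟩)
    have h1 := congrArg (N ^ (n - 1 - ((i0 : ℕ) + s))) hg
    rw [map_sum, map_zero, Finset.sum_eq_single i0] at h1
    · rw [map_smul, ← Module.End.mul_apply, ← pow_add, Nat.sub_add_cancel (by omega)] at h1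
      exact hi0' ((smul_eq_zero.1 h1).resolve_right hx0)
    · intro j _ hj
      by_cases hgj : g j = 0
      · rw [hgj, zero_smul, map_zero]
      · have h2 : (i0 : ℕ) ≤ (j : ℕ) := hmin j (Finset.mem_filter.2 ⟨Finset.mem_univ _, hgj⟩)
        have hne : (i0 : ℕ) ≠ (j : ℕ) := fun h => hj (Fin.ext h.symm)
        rw [map_smul, ← Module.End.mul_apply, ← pow_add, hbig _ (by omega), smul_zero]
    · simp
  have hli : LinearIndependent F b := by
    rw [Fintype.linearIndependent_iff]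
    intro g hg i
    exact hcoef g 0 (by simpa [hb] using hg) i (by simp)
  set e1 := (N ^ (n - 1)) x0 with he1
  set e2 := (N ^ (n - 2)) x0 with he2
  have hNe1 : N e1 = 0 := by
    rw [he1, ← Nl_pow_succ']
    exact hbig _ (by omega) x0
  have hNe2 : N e2 = e1 := by
    rw [he2, he1, ← Nl_pow_succ', show n - 2 + 1 = n - 1 by omega]
  have uu : app u e1 = e1 := sub_eq_zero.1 (by rw [← Nl_apply]; exact hNe1)
  have ue : app u e2 = e2 + e1 := by
    rw [← hNe2, hNdef, Nl_apply]; abel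
  have hker : ∀ y, N y = 0 → ∃ a : F, y = a • e1 := by
    intro y hy
    obtain ⟨c, hc⟩ := (Submodule.mem_span_range_iff_exists_fun F).1
      (show y ∈ Submodule.span F (Set.range b) by
        rw [hli.span_eq_top_of_card_eq_finrank' (by simp)]; trivial)
    refine ⟨c ⟨n - 1, by omega⟩, ?_⟩
    have h1 : ∑ i : Fin n, c i • (N ^ ((i : ℕ) + 1)) x0 = 0 := by
      rw [← hy, ← hc, map_sum]
      refine Finset.sum_congr rfl fun i _ => ?_
      rw [map_smul, hb]
      show _ = c i • N ((N ^ (i : ℕ)) x0)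
      rw [← Nl_pow_succ']
    rw [← hc, Finset.sum_eq_single ⟨n - 1, by omega⟩]
    · intro j _ hj
      have hjn : (j : ℕ) + 1 < n := by
        have := j.isLt
        have : (j : ℕ) ≠ n - 1 := fun h => hj (Fin.ext h)
        omega
      rw [hcoef c 1 h1 j hjn, zero_smul]
    · simp
  have he10 : e1 ≠ 0 := hx0
  -- the range is the orthogonal space of `e1`
  have hperp : ∀ v, H (N v) e1 = 0 := fun v => by
    have h := app_H u v e1
    rw [uu] at h
    rw [hNdef, Nl_apply, H_sub_left, h, sub_self]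
  have hrange : ∀ b, H b e1 = 0 → ∃ a, N a = b := by
    intro b hb1
    have hle : LinearMap.range N ≤ LinearMap.ker (Hl (q := q) e1) := by
      rintro _ ⟨v, rfl⟩
      exact hperp v
    have hk : Module.finrank F (LinearMap.ker N) ≤ 1 := by
      refine (Submodule.finrank_mono (t := Submodule.span F {e1}) fun y hy => ?_).trans
        (le_of_eq (finrank_span_singleton he10))
      obtain ⟨a, rfl⟩ := hker y hy
      exact Submodule.smul_mem _ _ (Submodule.mem_span_singleton_self _)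
    have hr := N.finrank_range_add_finrank_ker
    have hH := (Hl (q := q) e1).finrank_range_add_finrank_ker
    have hHr : 1 ≤ Module.finrank F (LinearMap.range (Hl (q := q) e1)) := by
      obtain ⟨w, hw⟩ := exists_H_eq_one (q := q) he10
      refine Nat.one_le_iff_ne_zero.2 fun h => ?_
      have := (Submodule.finrank_eq_zero.1 h ▸ LinearMap.mem_range_self (Hl (q := q) e1) w :
        Hl (q := q) e1 w ∈ (⊥ : Submodule F F))
      rw [Submodule.mem_bot, Hl_apply, hw] at this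
      exact one_ne_zero this
    have heq : LinearMap.range N = LinearMap.ker (Hl (q := q) e1) :=
      Submodule.eq_of_le_of_finrank_le hle (by omega)
    exact (heq.symm ▸ (show b ∈ LinearMap.ker (Hl (q := q) e1) from hb1) : b ∈ LinearMap.range N)
  have hstep : ∀ v, H (N v) e2 = - H v e1 := fun v => by
    have h1 := app_H u v e2
    have h2 := app_H u v e1
    rw [ue, H_add_right] at h1
    rw [uu] at h2
    rw [hNdef, Nl_apply, H_sub_left]
    linear_combination h1 - h2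
  have h11 : H e1 e1 = 0 := by
    have := hperp e2
    rwa [hNe2] at this
  have he2N : e2 = N ((N ^ (n - 3)) x0) := by
    rw [he2, ← Nl_pow_succ', show n - 3 + 1 = n - 2 by omega]
  have h21 : H e2 e1 = 0 := by rw [he2N]; exact hperp _
  have h12 : H e1 e2 = 0 := H_eq_zero_comm.1 h21
  have h22 : H e2 e2 = 0 := by
    have := hstep ((N ^ (n - 3)) x0)
    rw [← he2N] at this
    rw [this, show n - 3 = (n - 4) + 1 by omega, Nl_pow_succ', hperp, neg_zero]
  -- partners
  obtain ⟨v1, hv12, hv11⟩ : ∃ v, H v e2 = 0 ∧ H v e1 ≠ 0 := by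
    by_contra h
    push Not at h
    obtain ⟨a, ha⟩ := exists_smul_of_orth (q := q) h
    have := congrArg N ha
    rw [map_smul, hNe2, hNe1] at this
    by_cases ha0 : a = 0
    · exact he10 (by rw [ha, ha0, zero_smul])
    · exact he10 ((smul_eq_zero.1 this.symm).resolve_left ha0)
  set v1' := (H v1 e1)⁻¹ • v1
  obtain ⟨t1, ht1⟩ := exists_trace (F := F) (q := q) (c := - H v1' v1') (by rw [map_neg, H_self_fixed])
  set f1 := v1' + t1 • e1 with hf1
  have hv1'1 : H v1' e1 = 1 := by simp [v1', inv_mul_cancel₀ hv11]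
  have hv1'1' : H e1 v1' = 1 := by rw [← H_flip, hv1'1, map_one]
  have g11 : H f1 e1 = 1 := by simp [hf1, hv1'1, h11]
  have g12 : H f1 e2 = 0 := by simp [hf1, v1', hv12, h12]
  have hf11 : H f1 f1 = 0 := by
    simp [hf1, h11, hv1'1, hv1'1']
    linear_combination ht1
  obtain ⟨v2, hv21, hv22⟩ : ∃ v, H v e1 = 0 ∧ H v e2 ≠ 0 := by
    by_contra h
    push Not at h
    obtain ⟨a, ha⟩ := exists_smul_of_orth (q := q) h
    have := congrArg N ha
    rw [map_smul, hNe2, hNe1, smul_zero] at this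
    exact he10 this
  set v2' := (H v2 e2)⁻¹ • v2 - ((H v2 e2)⁻¹ * H v2 f1) • e1 with hv2'
  have he1f1 : H e1 f1 = 1 := by rw [← H_flip, g11, map_one]
  have hv2'1 : H v2' e1 = 0 := by simp [hv2', hv21, h11]
  have hv2'2 : H v2' e2 = 1 := by simp [hv2', h12, inv_mul_cancel₀ hv22]
  have hv2'f : H v2' f1 = 0 := by simp [hv2', he1f1]
  have hv2'2' : H e2 v2' = 1 := by rw [← H_flip, hv2'2, map_one]
  obtain ⟨t2, ht2⟩ := exists_trace (F := F) (q := q) (c := - H v2' v2') (by rw [map_neg, H_self_fixed])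
  set f2 := v2' + t2 • e2 with hf2
  have g21 : H f2 e1 = 0 := by simp [hf2, hv2'1, h21]
  have g22 : H f2 e2 = 1 := by simp [hf2, hv2'2, h22]
  have he2f1 : H e2 f1 = 0 := H_eq_zero_comm.1 g12
  have hf21 : H f2 f1 = 0 := by simp [hf2, hv2'f, he2f1]
  have hf22 : H f2 f2 = 0 := by
    simp [hf2, h22, hv2'2, hv2'2']
    linear_combination ht2
  have hf12 : H f1 f2 = 0 := H_eq_zero_comm.1 hf21
  -- an anisotropic vector orthogonal to the four
  let Pr : V → V := fun v => v - H v f1 • e1 - H v f2 • e2 - H v e1 • f1 - H v e2 • f2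
  have he2f2 : H e2 f2 = 1 := by rw [← H_flip, g22, map_one]
  have he1f2 : H e1 f2 = 0 := H_eq_zero_comm.1 g21
  have hPr : ∀ v, H (Pr v) e1 = 0 ∧ H (Pr v) e2 = 0 ∧ H (Pr v) f1 = 0 ∧ H (Pr v) f2 = 0 := fun v => by
    simp [Pr, h11, h12, h21, h22, g11, g12, g21, g22, hf11, hf12, hf21, hf22, he1f1, he1f2, he2f1, he2f2]
  obtain ⟨v, hv⟩ : ∃ v, Pr v ≠ 0 := by
    by_contra h
    push Not at h
    have hsp : Submodule.span F (Set.range ![e1, e2, f1, f2]) = ⊤ := eq_top_iff.2 fun v _ => by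
      have hv := h v
      simp only [Pr, sub_eq_zero] at hv
      have : v = H v f1 • e1 + H v f2 • e2 + H v e1 • f1 + H v e2 • f2 := by
        conv_rhs => rw [← hv]
        abel
      rw [this]
      refine add_mem (add_mem (add_mem ?_ ?_) ?_) ?_ <;> refine Submodule.smul_mem _ _ (Submodule.subset_span ?_)
      exacts [⟨0, rfl⟩, ⟨1, rfl⟩, ⟨2, rfl⟩, ⟨3, rfl⟩]
    have := finrank_range_le_card (R := F) ![e1, e2, f1, f2]
    rw [Set.finrank, hsp, finrank_top, Module.finrank_fin_fun, Fintype.card_fin] at this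
    omega
  obtain ⟨y, hy1, hy2, hy3, hy4, hyy⟩ :
      ∃ y, H y e1 = 0 ∧ H y e2 = 0 ∧ H y f1 = 0 ∧ H y f2 = 0 ∧ H y y ≠ 0 := by
    by_contra hcon
    push Not at hcon
    have hiso : ∀ w, H (Pr w) (Pr w) = 0 := fun w =>
      hcon _ (hPr w).1 (hPr w).2.1 (hPr w).2.2.1 (hPr w).2.2.2
    have hcross : ∀ w, H (Pr v) (Pr w) = 0 := by
      intro w
      have key : ∀ c : F, σ c * H (Pr v) (Pr w) + c * H (Pr w) (Pr v) = 0 := by
        intro c
        have hP : Pr (v + c • w) = Pr v + c • Pr w := by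
          simp only [Pr, H_add_left, H_smul_left]
          module
        have h1 := hiso (v + c • w)
        rw [hP] at h1
        simp [hiso] at h1
        linear_combination h1
      obtain ⟨a, ha⟩ := qb_ne (F := F) (q := q)
      have h1 := key 1
      have h2 := key a
      rw [map_one] at h1
      have h3 : (σ a - a) * H (Pr v) (Pr w) = 0 := by linear_combination h2 - a * h1
      exact (mul_eq_zero.1 h3).resolve_left (sub_ne_zero.2 ha)
    refine hv (eq_zero_of_orth' (q := q) fun w => ?_)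
    have hw : w = Pr w + H w f1 • e1 + H w f2 • e2 + H w e1 • f1 + H w e2 • f2 := by
      simp only [Pr]; abel
    rw [hw]
    simp [hcross, (hPr v).1, (hPr v).2.1, (hPr v).2.2.1, (hPr v).2.2.2]
  obtain ⟨α, hα⟩ := exists_norm (F := F) (q := q) (c := (H y y)⁻¹) (by rw [map_inv₀, H_self_fixed])
  refine ⟨⟨e1, e2, f1, f2, α • y, uu, ue, h11, h12, h22, hf11, hf12, hf22, g11, g12, g21, g22,
    by simp [hy1], by simp [hy2], by simp [hy3], by simp [hy4], ?_, hker, ?_, ?_, ?_⟩⟩
  · rw [H_smul_left, H_smul_right, ← mul_assoc, hα, inv_mul_cancel₀ hyy]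
  · intro b hb1 hb2
    obtain ⟨a, ha⟩ := hrange b hb1
    refine ⟨a, ?_, ha⟩
    have := hstep a
    rw [ha, hb2] at this
    exact neg_eq_zero.1 this.symm
  · intro a ha
    obtain ⟨w, rfl⟩ := hrange a ha
    rw [← Nl_pow_succ]
    exact hbig _ (by omega) w
  · refine ⟨N x0, hperp x0, ?_⟩
    rw [← Nl_pow_succ, show n - 3 + 1 = n - 2 by omega]

/-- The conjugating element sending `e2, f1, e1 + e2` to `e1, e2, f2`. -/
theorem exists_g {u : Cfsg.SU n F q} (C : Chain u) : ∃ g : Cfsg.SU n F q,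
    app g C.e2 = C.e1 ∧ app g C.f1 = C.e2 ∧ app g C.e1 = C.f2 - C.e1 := by
  classical
  have h21 : H C.e2 C.e1 = 0 := H_eq_zero_comm.1 C.h12
  have hf21 : H C.f2 C.f1 = 0 := H_eq_zero_comm.1 C.hf12
  have e1f1 : H C.e1 C.f1 = 1 := by rw [← H_flip, C.g11, map_one]
  have e1f2 : H C.e1 C.f2 = 0 := H_eq_zero_comm.1 C.g21
  have e2f1 : H C.e2 C.f1 = 0 := H_eq_zero_comm.1 C.g12
  have e2f2 : H C.e2 C.f2 = 1 := by rw [← H_flip, C.g22, map_one]
  let L : V →ₗ[F] V := LinearMap.id + (Hl (q := q) C.f1).smulRight (C.f2 - C.e1 - C.e1) +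
    (Hl (q := q) C.f2).smulRight (C.e1 - C.e2) + (Hl (q := q) C.e1).smulRight (C.e2 - C.f1) +
    (Hl (q := q) C.e2).smulRight (C.f1 + C.e2 - C.f2)
  have hL : ∀ v, L v = v + H v C.f1 • (C.f2 - C.e1 - C.e1) + H v C.f2 • (C.e1 - C.e2) +
      H v C.e1 • (C.e2 - C.f1) + H v C.e2 • (C.f1 + C.e2 - C.f2) := fun v => rfl
  have hp : ∀ a b, H (L a) (L b) = H a b := by
    intro a b
    have r1 : H C.e1 b = σ (H b C.e1) := (H_flip b C.e1).symm
    have r2 : H C.e2 b = σ (H b C.e2) := (H_flip b C.e2).symm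
    have r3 : H C.f1 b = σ (H b C.f1) := (H_flip b C.f1).symm
    have r4 : H C.f2 b = σ (H b C.f2) := (H_flip b C.f2).symm
    rw [hL, hL]
    simp only [H_add_left, H_add_right, H_sub_left, H_sub_right, H_smul_left, H_smul_right, C.h11,
      C.h12, C.h22, h21, C.hf11, C.hf12, hf21, C.hf22, C.g11, C.g12, C.g21, C.g22, e1f1, e1f2,
      e2f1, e2f2, r1, r2, r3, r4]
    ring
  obtain ⟨gL, hgL⟩ := exists_GU_of_pres (q := q) L hp
  have hw0 : H C.w0 C.w0 ≠ 0 := by rw [C.hww]; exact one_ne_zero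
  obtain ⟨s, hs⟩ := (mem_range_suToGU_iff (gL * reflHom C.w0 hw0 (detHom gL)⁻¹)).2
    (by rw [map_mul, detHom_reflHom, mul_inv_cancel])
  have happ : ∀ v, H v C.w0 = 0 → app s v = L v := by
    intro v hv
    show ((s : Matrix.SpecialLinearGroup (Fin n) F) : Matrix (Fin n) (Fin n) F) *ᵥ v = _
    rw [← suToGU_coe, hs, Subgroup.coe_mul, Units.val_mul, ← Matrix.mulVec_mulVec, reflHom_apply, hgL]
    congr 1
    simp [reflLin_apply, hv]
  refine ⟨s, ?_, ?_, ?_⟩ <;> rw [happ _ (H_eq_zero_comm.1 (by first | exact C.hw1 | exact C.hw2 | exact C.hw3)), hL]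
  · simp [C.h22, h21, e2f1, e2f2]
  · simp [C.hf11, C.hf12, C.g11, C.g12]
  · simp [C.h11, C.h12, e1f1, e1f2]

end Cfsg.Agent.SUOddGen
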