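import Cfsg.Agent.Lib.SUOddGen.Basic
import Cfsg.Agent.Lib.AutPSU.Pair
import Cfsg.Agent.Lib.Forms.UnitaryFin
import Mathlib

/-!
Three conjugate regular unipotent elements generate `SU_n(q)`, `n ≥ 5`: two of them give a root element
at the fixed point, whose conjugate under the third acts on the radical with a primitive eigen-scalar.
-/

set_option autoImplicit false
set_option linter.unusedSectionVars false
set_option linter.style.haveILetI false

namespace Cfsg.Agent.SUOddGen

open Cfsg.Agent Cfsg.Agent.AutPSU Matrix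

variable {F : Type*} [Field F] [Fintype F] {q : ℕ} [hQ : QField F q] {n : ℕ}
  {u : Cfsg.SU n F q} (C : Chain u)

local notation "σ" => qb (F := F) q
local notation "H" => Cfsg.hermForm n F q
local notation "V" => Fin n → F

theorem IsQ.neg {x a : V} {t : F} (h : IsQ q x a t) : IsQ q x (-a) (σ t) := by
  refine ⟨h.1, by simp [h.2.1], ?_⟩
  simp
  linear_combination h.2.2

theorem inv_qE {x a : V} {t : F} (h : IsQ q x a t) :
    (qE x a t h)⁻¹ = qE x (-a) (σ t) (IsQ.neg h) := by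
  rw [inv_eq_iff_mul_eq_one, qE_mul, ← qE_one (q := q) (n := n) h.1]
  refine qE_congr (add_neg_cancel a) ?_
  simp
  linear_combination h.2.2

theorem Chain.h21 : H C.e2 C.e1 = 0 := H_eq_zero_comm.1 C.h12

theorem Chain.e1f1 : H C.e1 C.f1 = 1 := by rw [← H_flip, C.g11, map_one]

theorem Chain.e2f2 : H C.e2 C.f2 = 1 := by rw [← H_flip, C.g22, map_one]

theorem Chain.e1f2 : H C.e1 C.f2 = 0 := H_eq_zero_comm.1 C.g21

theorem Chain.e1_ne : C.e1 ≠ 0 := fun h => one_ne_zero (α := F) (by rw [← C.g11, h, H_zero_right])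

theorem Chain.inv_e1 : app u⁻¹ C.e1 = C.e1 := by
  have := app_inv u C.e1
  rwa [C.uu] at this

theorem Chain.inv_e2 : app u⁻¹ C.e2 = C.e2 - C.e1 := by
  have h : app u (C.e2 - C.e1) = C.e2 := by rw [app_sub, C.uu, C.ue]; abel
  have := app_inv u (C.e2 - C.e1)
  rwa [h] at this

/-- Every root element in the first step below the top is `u⁻¹` times a conjugate of `u`. -/
theorem exists_conj {b : V} {t : F} (h : IsQ q C.e1 b t) (hb : H b C.e2 = 0) :
    ∃ w : Cfsg.SU n F q, u⁻¹ * (w * u * w⁻¹) = qE C.e1 b t h := by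
  obtain ⟨a, ha1, haN⟩ := C.ima (-b) (by simp [h.2.1]) (by simp [hb])
  set a0 := app u a with ha0
  have ha01 : H a0 C.e1 = 0 := by
    have := app_H u a C.e1
    rw [C.uu] at this
    rw [ha0, this, ha1]
  have hua : app u⁻¹ a0 = a := app_inv u a
  have hab : a + -a0 = b := by
    rw [← neg_neg b, ← haN, Nl_apply, ← ha0]; abel
  obtain ⟨τ, hτ⟩ := exists_trace (F := F) (q := q) (c := - H a0 a0) (by rw [map_neg, H_self_fixed])
  have h1 : IsQ q C.e1 a0 τ := ⟨C.h11, ha01, by linear_combination hτ⟩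
  have h1' : IsQ q C.e1 a τ := ⟨C.h11, ha1, by
    have := app_H u a a
    rw [← ha0] at this
    linear_combination hτ - this⟩
  have e1 : u⁻¹ * qE C.e1 a0 τ h1 * u⁻¹⁻¹ = qE C.e1 a τ h1' := by
    rw [qE_conj]
    apply su_ext
    intro v
    show app _ v = app _ v
    rw [qE_apply, qE_apply, C.inv_e1, hua]
  set t1 := τ + σ τ - H (-a0) a with ht1
  have hY : IsQ q C.e1 b t1 := hab ▸ h1'.add (IsQ.neg h1)
  have eY : qE C.e1 a τ h1' * (qE C.e1 a0 τ h1)⁻¹ = qE C.e1 b t1 hY := by
    rw [inv_qE, qE_mul]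
    exact qE_congr hab rfl
  have hδ : (t1 - t) + σ (t1 - t) = 0 := by
    rw [map_sub]; linear_combination hY.2.2 - h.2.2
  obtain ⟨θ, hθ⟩ := exists_trace (F := F) (q := q) (c := (1 : F)) (map_one _)
  set r := (t1 - t) * θ with hr
  have hr' : r - σ r = t1 - t := by
    rw [hr, map_mul]
    linear_combination (t1 - t) * hθ - σ θ * hδ
  have he2 : IsQ q C.e1 (r • C.e2) 0 := ⟨C.h11, by simp [C.h21], by simp [C.h22]⟩
  have he2' : IsQ q C.e1 (r • (C.e2 - C.e1)) 0 :=
    ⟨C.h11, by simp [C.h21, C.h11], by simp [C.h11, C.h12, C.h21, C.h22]⟩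
  have e2 : u⁻¹ * qE C.e1 (r • C.e2) 0 he2 * u⁻¹⁻¹ = qE C.e1 (r • (C.e2 - C.e1)) 0 he2' := by
    rw [qE_conj]
    apply su_ext
    intro v
    show app _ v = app _ v
    rw [qE_apply, qE_apply, C.inv_e1, app_smul, C.inv_e2]
  refine ⟨qE C.e1 (r • C.e2) 0 he2 * qE C.e1 a0 τ h1, ?_⟩
  rw [show u⁻¹ * (qE C.e1 (r • C.e2) 0 he2 * qE C.e1 a0 τ h1 * u *
      (qE C.e1 (r • C.e2) 0 he2 * qE C.e1 a0 τ h1)⁻¹) =
      (u⁻¹ * qE C.e1 (r • C.e2) 0 he2 * u⁻¹⁻¹) * ((u⁻¹ * qE C.e1 a0 τ h1 * u⁻¹⁻¹) *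
        (qE C.e1 a0 τ h1)⁻¹) * (qE C.e1 (r • C.e2) 0 he2)⁻¹ by group, e1, e2, eY, inv_qE, qE_mul, qE_mul]
  have hb2 : H C.e2 b = 0 := H_eq_zero_comm.1 hb
  have hb1 : H C.e1 b = 0 := H_eq_zero_comm.1 h.2.1
  have h' : IsQ q C.e1 (b + (-r) • C.e1) t1 := by
    refine ⟨C.h11, by simp [h.2.1, C.h11], ?_⟩
    simp [h.2.1, hb1, C.h11]
    linear_combination hY.2.2
  rw [qE_congr (h' := h') (by module) (by simp [h.2.1, hb, hb2, hb1, C.h11, C.h12, C.h21, C.h22]),
    qE_add_smul (-r) h' (by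
      refine ⟨C.h11, h.2.1, ?_⟩
      simp
      linear_combination hY.2.2)]
  exact qE_congr rfl (by rw [map_neg]; linear_combination -hr')

theorem app_pow (N : Cfsg.SU n F q) {x : V} (h : app N x = x) : app N⁻¹ x = x := by
  have := app_inv N x
  rwa [h] at this

/-- The generation criterion. -/
theorem closure_eq_top (hn : 5 ≤ n) (hF : Fintype.card F = q ^ 2) (G : Subgroup (Cfsg.SU n F q))
    (hu : u ∈ G) (v : Cfsg.SU n F q) (hv : v ∈ G) (hve : app v C.e1 = C.f2)
    {b : V} {t : F} (hbt : IsQ q C.e1 b t) (hX : qE C.e1 b t hbt ∈ G)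
    (hb : ∀ s : F, b ≠ s • C.e1) (hβ1 : H (app v b) C.e1 = 0) (hβ2 : H (app v b) C.e2 = 0)
    (hgen : Subring.closure ({H ((Nl u ^ (n - 3)) C.f2) C.f2 * t} : Set F) = ⊤) : G = ⊤ := by
  classical
  set N := Nl u with hN
  set β := app v b with hβ
  set PP := H ((N ^ (n - 3)) C.f2) C.f2 with hPi
  let P : AddSubgroup V :=
    { carrier := {α | ∃ (s : F) (h : IsQ q C.e1 α s), qE C.e1 α s h ∈ G}
      zero_mem' := ⟨0, isQ_zero C.h11, by
        convert G.one_mem using 1
        exact qE_one C.h11⟩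
      add_mem' := by
        rintro α α' ⟨s, h, hG⟩ ⟨s', h', hG'⟩
        refine ⟨_, h.add h', ?_⟩
        convert G.mul_mem hG hG' using 1
        rw [qE_mul]
      neg_mem' := by
        rintro α ⟨s, h, hG⟩
        exact ⟨_, IsQ.neg h, inv_qE h ▸ G.inv_mem hG⟩ }
  have hPperp : ∀ α ∈ P, H α C.e1 = 0 := fun α ⟨s, h, _⟩ => h.2.1
  have hline : ∀ c : F, c • C.e1 ∈ P := by
    intro c
    have h : IsQ q C.e1 ((0 : V) + c • C.e1) (σ c - c) :=
      ⟨C.h11, by simp [C.h11], by simp [C.h11]⟩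
    refine ⟨σ c - c, by simpa using h, ?_⟩
    rw [qE_congr (h' := h) (zero_add _).symm rfl,
      qE_add_smul c h (by refine ⟨C.h11, by simp, ?_⟩; simp)]
    convert G.one_mem using 1
    rw [← qE_one (q := q) (n := n) C.h11]
    exact qE_congr rfl (by ring)
  have hPconj : ∀ w ∈ G, app w C.e1 = C.e1 → ∀ α ∈ P, app w α ∈ P := by
    rintro w hw hwe α ⟨s, h, hG⟩
    have h' : IsQ q C.e1 (app w α) s := by
      have := h.app w
      rwa [hwe] at this
    refine ⟨s, h', ?_⟩
    convert G.mul_mem (G.mul_mem hw hG) (G.inv_mem hw) using 1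
    rw [qE_conj]
    apply su_ext
    intro z
    show app _ z = app _ z
    rw [qE_apply, qE_apply, hwe]
  have hPN : ∀ α ∈ P, N α ∈ P := fun α hα => by
    rw [hN, Nl_apply]; exact P.sub_mem (hPconj u hu C.uu α hα) hα
  have hPN' : ∀ (j : ℕ), ∀ α ∈ P, (N ^ j) α ∈ P := by
    intro j
    induction j with
    | zero => intro α hα; simpa using hα
    | succ j ih => intro α hα; rw [hN, Nl_pow_succ']; exact hPN _ (ih α hα)
  -- the conjugated root element
  have hT : IsQ q C.f2 β t := by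
    have := hbt.app v
    rwa [hve] at this
  have hTG : qE C.f2 β t hT ∈ G := by
    convert G.mul_mem (G.mul_mem hv hX) (G.inv_mem hv) using 1
    rw [qE_conj]
    apply su_ext
    intro z
    show app _ z = app _ z
    rw [qE_apply, qE_apply, hve]
  have hTe1 : app (qE C.f2 β t hT) C.e1 = C.e1 := by
    rw [qE_apply, C.e1f2, H_eq_zero_comm.1 hβ1]
    simp
  set a1 := β + t • C.f2 with ha1
  have hTe2 : ∀ s : F, app (qE C.f2 β t hT) (s • C.e2) - s • C.e2 = s • a1 := fun s => by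
    rw [qE_apply, H_smul_left, H_smul_left, C.e2f2, H_eq_zero_comm.1 hβ2]
    simp only [ha1]
    module
  -- the quotient of the radical by the last line
  have hNe1 : N C.e1 = 0 := by rw [hN, Nl_apply, C.uu, sub_self]
  have hNe2 : N C.e2 = C.e1 := by rw [hN, Nl_apply, C.ue]; abel
  have hk2 : ∀ y, (N ^ 2) y = 0 → y = H y C.f2 • C.e2 + H y C.f1 • C.e1 := by
    intro y hy
    obtain ⟨c, hc⟩ := C.ker (N y) (by rw [pow_two] at hy; exact hy)
    obtain ⟨d, hd⟩ := C.ker (y - c • C.e2) (by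
      show N (y - c • C.e2) = 0
      rw [map_sub, map_smul, hNe2, hc, sub_self])
    have e : y = c • C.e2 + d • C.e1 := by rw [← hd]; abel
    have he2f1 : H C.e2 C.f1 = 0 := H_eq_zero_comm.1 C.g12
    have h1 : H y C.f2 = c := by rw [e]; simp [C.e2f2, C.e1f2]
    have h2 : H y C.f1 = d := by rw [e]; simp [he2f1, C.e1f1]
    rw [h1, h2]
    exact e
  have hdrop : ∀ α, H α C.e1 = 0 → H α C.e2 = 0 → H ((N ^ (n - 3)) α) C.f2 = 0 := by
    intro α h1 h2
    obtain ⟨a, ha, haN⟩ := C.ima α h1 h2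
    obtain ⟨c, hc⟩ := C.ker ((N ^ (n - 2)) a) (by
      rw [← Nl_pow_succ', show n - 2 + 1 = n - 1 by omega, C.kill a ha])
    rw [← haN, hN, ← Nl_pow_succ, show n - 3 + 1 = n - 2 by omega, hc]
    simp [C.e1f2]
  have hphi : ∀ α, H α C.e1 = 0 → (N ^ (n - 3)) α =
      (PP * H α C.e2) • C.e2 + H ((N ^ (n - 3)) α) C.f1 • C.e1 := by
    intro α h1
    have h0 := hdrop (α - H α C.e2 • C.f2) (by simp [h1, C.g21]) (by simp [C.g22])
    rw [map_sub, map_smul, H_sub_left, H_smul_left, ← hPi] at h0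
    conv_lhs => rw [hk2 ((N ^ (n - 3)) α) (by
      rw [← Module.End.mul_apply, ← pow_add, show 2 + (n - 3) = n - 1 by omega]; exact C.kill α h1)]
    rw [show H ((N ^ (n - 3)) α) C.f2 = PP * H α C.e2 by linear_combination h0]
  have hPi0 : PP ≠ 0 := by
    intro h
    obtain ⟨a, ha, haN⟩ := C.top
    have h1 := hphi a ha
    rw [h, zero_mul, zero_smul, zero_add, hN, haN] at h1
    have := congrArg (fun z => H z C.f2) h1
    simp [C.e2f2, C.e1f2] at this
  have ha1e1 : H a1 C.e1 = 0 := by simp [ha1, hβ1, C.g21]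
  have ha1e2 : H a1 C.e2 = t := by simp [ha1, hβ2, C.g22]
  -- scalars on the second line
  let S : AddSubgroup F := P.comap (LinearMap.toSpanSingleton F V C.e2).toAddMonoidHom
  have hS : ∀ s, s ∈ S ↔ s • C.e2 ∈ P := fun s => Iff.rfl
  have hSe : ∀ (s c : F), s • C.e2 + c • C.e1 ∈ P → s ∈ S := fun s c h => by
    rw [hS]
    simpa using P.sub_mem h (hline c)
  have hlam : ∀ s ∈ S, PP * t * s ∈ S := by
    intro s hs
    have h1 := hPN' (n - 3) _ (P.sub_mem (hPconj _ hTG hTe1 _ ((hS s).1 hs)) ((hS s).1 hs))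
    rw [hTe2, map_smul, hphi a1 ha1e1, ha1e2, smul_add, smul_smul, smul_smul] at h1
    rw [mul_comm (PP * t) s]
    exact hSe _ _ h1
  have hbP : b ∈ P := ⟨t, hbt, hX⟩
  obtain ⟨ρ, hρ0, hρ⟩ : ∃ ρ : F, ρ ≠ 0 ∧ ρ ∈ S := by
    have hex : ∃ j, ∃ c : F, (N ^ j) b = c • C.e1 := ⟨n - 1, 0, by
      rw [zero_smul]; exact C.kill b hbt.2.1⟩
    obtain ⟨c, hc⟩ := Nat.find_spec hex
    rcases Nat.eq_zero_or_pos (Nat.find hex) with h0 | h0
    · rw [h0, pow_zero, Module.End.one_apply] at hc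
      exact absurd hc (hb c)
    · obtain ⟨m, hm⟩ : ∃ m, Nat.find hex = m + 1 := ⟨Nat.find hex - 1, by omega⟩
      have hy : (N ^ 2) ((N ^ m) b) = 0 := by
        rw [← Module.End.mul_apply, ← pow_add, show 2 + m = (m + 1) + 1 by omega, hN, Nl_pow_succ',
          ← hN, ← hm, hc, map_smul, hNe1, smul_zero]
      have hdec := hk2 _ hy
      refine ⟨H ((N ^ m) b) C.f2, fun h => ?_, hSe _ (H ((N ^ m) b) C.f1) ?_⟩
      · rw [h, zero_smul, zero_add] at hdec
        exact Nat.find_min hex (show m < Nat.find hex by omega) ⟨_, hdec⟩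
      · rw [← hdec]; exact hPN' m b hbP
  have hSall : ∀ s : F, s ∈ S := by
    let R : Subring F :=
      { carrier := {r | ∀ α ∈ S, r * α ∈ S}
        zero_mem' := fun α _ => by rw [zero_mul]; exact S.zero_mem
        one_mem' := fun α h => by rwa [one_mul]
        add_mem' := fun {r r'} h h' α ha => by rw [add_mul]; exact S.add_mem (h α ha) (h' α ha)
        neg_mem' := fun {r} h α ha => by rw [neg_mul]; exact S.neg_mem (h α ha)
        mul_mem' := fun {r r'} h h' α ha => by rw [mul_assoc]; exact h _ (h' α ha) }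
    have hR : R = ⊤ := top_le_iff.1 (hgen ▸ Subring.closure_le.2 (Set.singleton_subset_iff.2 hlam))
    intro s
    have := (show s * ρ⁻¹ ∈ R by rw [hR]; trivial) ρ hρ
    rwa [mul_assoc, inv_mul_cancel₀ hρ0, mul_one] at this
  have ha1P : ∀ s : F, s • a1 ∈ P := fun s => by
    rw [← hTe2]
    exact P.sub_mem (hPconj _ hTG hTe1 _ ((hS s).1 (hSall s))) ((hS s).1 (hSall s))
  have ht0 : t ≠ 0 := by
    intro h
    rw [h, mul_zero] at hgen
    have : Subring.closure ({0} : Set F) = ⊥ :=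
      bot_unique (Subring.closure_le.2 (Set.singleton_subset_iff.2 (zero_mem ⊥)))
    rw [this] at hgen
    obtain ⟨z, hz⟩ := qb_ne (F := F) (q := q)
    obtain ⟨k, rfl⟩ := Subring.mem_bot.1 (show z ∈ (⊥ : Subring F) by rw [hgen]; trivial)
    exact hz (map_intCast _ k)
  -- the whole radical
  have hrad : ∀ k, k ≤ n - 1 → ∀ α, H α C.e1 = 0 → (N ^ k) α = 0 → ∀ s : F, s • α ∈ P := by
    intro k
    induction k with
    | zero =>
      intro _ α _ h s
      rw [pow_zero, Module.End.one_apply] at h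
      rw [h, smul_zero]
      exact P.zero_mem
    | succ k ih =>
      intro hk α hα hkα s
      obtain ⟨c, hc⟩ := C.ker ((N ^ k) α) (by rw [hN, ← Nl_pow_succ', ← hN]; exact hkα)
      have htop : (N ^ (n - 2)) a1 = (PP * t) • C.e1 := by
        rw [show n - 2 = (n - 3) + 1 by omega, hN, Nl_pow_succ', ← hN, hphi a1 ha1e1, ha1e2, map_add,
          map_smul, map_smul, hNe1, hNe2, smul_zero, add_zero]
      set a' := (c / (PP * t)) • (N ^ (n - 2 - k)) a1 with ha'
      have ha'P : ∀ s' : F, s' • a' ∈ P := fun s' => by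
        rw [ha', smul_smul, ← map_smul]
        exact hPN' _ _ (ha1P _)
      have h1 : (N ^ k) (α - a') = 0 := by
        rw [map_sub, hc, ha', map_smul, ← Module.End.mul_apply, ← pow_add,
          show k + (n - 2 - k) = n - 2 by omega, htop, smul_smul,
          div_mul_cancel₀ _ (mul_ne_zero hPi0 ht0), sub_self]
      have h2 : H (α - a') C.e1 = 0 := by
        have := hPperp _ (ha'P 1)
        rw [one_smul] at this
        rw [H_sub_left, hα, this, sub_zero]
      have := P.add_mem (ih (by omega) _ h2 h1 s) (ha'P s)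
      rwa [← smul_add, sub_add_cancel] at this
  have hall : ∀ α, H α C.e1 = 0 → α ∈ P := fun α hα => by
    simpa using hrad (n - 1) le_rfl α hα (C.kill α hα) 1
  -- the centre of the radical
  have hcent : ∀ (s : F) (h : IsT q C.e1 s), tr C.e1 s h ∈ G := by
    intro s h
    obtain ⟨θ, hθ⟩ := exists_trace (F := F) (q := q) (c := (1 : F)) (map_one _)
    set r := s * θ
    obtain ⟨T1, h1, hA⟩ := hall (r • C.w0) (by simp [C.hw1])
    obtain ⟨T2, h2, hB⟩ := hall C.w0 C.hw1
    convert G.mul_mem (G.mul_mem hA hB) (G.inv_mem (G.mul_mem hB hA)) using 1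
    rw [eq_mul_inv_iff_mul_eq, qE_mul, qE_mul, tr, qE_mul]
    refine qE_congr (by simp [add_comm]) ?_
    have hts := h.2
    simp [C.hww, r]
    linear_combination σ θ * hts - s * hθ
  have hU : ∀ (α : V) (s : F) (h : IsQ q C.e1 α s), qE C.e1 α s h ∈ G := by
    intro α s h
    obtain ⟨s', h', hG⟩ := hall α h.2.1
    have hs : IsT q C.e1 (s - s') := by
      refine ⟨C.h11, ?_⟩
      rw [map_sub]
      linear_combination h.2.2 - h'.2.2
    convert G.mul_mem (hcent _ hs) hG using 1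
    rw [tr, qE_mul]
    exact qE_congr (by simp) (by simp)
  -- transitivity
  have hf : ∀ y : V, H y y = 0 → H y C.e1 ≠ 0 → ∃ g ∈ G, y = H y C.e1 • app g C.f1 := by
    intro y hyy hye
    set z := (H y C.e1)⁻¹ • y with hz
    have hzz : H z z = 0 := by simp [hz, hyy]
    have hze : H z C.e1 = 1 := by simp [hz, inv_mul_cancel₀ hye]
    have hq : IsQ q C.e1 (z - C.f1) (H C.f1 (z - C.f1)) := by
      refine ⟨C.h11, by simp [hze, C.g11], ?_⟩
      rw [H_flip]
      simp [hzz, C.hf11]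
    refine ⟨_, hU _ _ hq, ?_⟩
    have : app (qE C.e1 (z - C.f1) (H C.f1 (z - C.f1)) hq) C.f1 = z := by
      rw [qE_apply, C.g11]; module
    rw [this, hz, smul_smul, mul_inv_cancel₀ hye, one_smul]
  obtain ⟨m, hmG, hm⟩ : ∃ m ∈ G, H (app m C.e1) C.e1 ≠ 0 := by
    obtain ⟨j, hj⟩ : ∃ j, H (app (u ^ j) C.f2) C.f2 ≠ 0 := by
      by_contra hcon
      push Not at hcon
      have h0 : ∀ k j, H (app (u ^ j) ((N ^ k) C.f2)) C.f2 = 0 := by
        intro k
        induction k with
        | zero => intro j; simpa using hcon j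
        | succ k ih =>
          intro j
          rw [hN, Nl_pow_succ', Nl_apply, app_sub, ← app_mul, ← pow_succ, H_sub_left, ← hN, ih, ih,
            sub_self]
      exact hPi0 (by simpa [app_one] using h0 (n - 3) 0)
    set y := app (u ^ j) C.f2 with hy
    have hy1 : H y C.e1 = 0 := by
      have h1 : app (u ^ j) C.e1 = C.e1 := by
        clear hy hj y
        induction j with
        | zero => rw [pow_zero, app_one]
        | succ j ih => rw [pow_succ, app_mul, C.uu, ih]
      rw [hy]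
      conv_lhs => rw [← h1]
      rw [app_H, C.g21]
    have hq : IsQ q C.e1 (app v⁻¹ C.f1) 0 := by
      refine ⟨C.h11, ?_, by simp [app_H, C.hf11]⟩
      have := app_H v (app v⁻¹ C.f1) C.e1
      rw [app_inv', hve, C.hf12] at this
      exact this.symm
    refine ⟨v * qE C.e1 (app v⁻¹ C.f1) 0 hq * v⁻¹ * (u ^ j * v), G.mul_mem (G.mul_mem (G.mul_mem hv
      (hU _ _ hq)) (G.inv_mem hv)) (G.mul_mem (G.pow_mem hu _) hv), ?_⟩
    rw [app_mul, app_mul (u ^ j), hve, ← hy, qE_conj]
    rw [qE_apply, hve, app_inv']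
    simp [hy1, C.g11, C.g21, hj]
  have hfe : ∃ (g : Cfsg.SU n F q) (a : F), g ∈ G ∧ a ≠ 0 ∧ C.f1 = a • app g C.e1 := by
    obtain ⟨g, hg, he⟩ := hf (app m C.e1) (by rw [app_H, C.h11]) hm
    refine ⟨g⁻¹ * m, (H (app m C.e1) C.e1)⁻¹, G.mul_mem (G.inv_mem hg) hmG, inv_ne_zero hm, ?_⟩
    rw [app_mul]
    conv_rhs => arg 2; rw [he]
    rw [app_smul, app_inv, smul_smul, inv_mul_cancel₀ hm, one_smul]
  have htrans : ∀ y : V, H y y = 0 → ∃ (g : Cfsg.SU n F q) (a : F), g ∈ G ∧ y = a • app g C.e1 := by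
    intro y hyy
    obtain ⟨g', a, hg', ha, hfe⟩ := hfe
    have hnonorth : ∀ y, H y y = 0 → H y C.e1 ≠ 0 →
        ∃ (g : Cfsg.SU n F q) (c : F), g ∈ G ∧ y = c • app g C.e1 := by
      intro y hyy hye
      obtain ⟨g, hg, he⟩ := hf y hyy hye
      refine ⟨g * g', H y C.e1 * a, G.mul_mem hg hg', ?_⟩
      conv_lhs => rw [he, hfe, app_smul, smul_smul]
      rw [app_mul]
    by_cases hye : H y C.e1 = 0
    · by_cases hline' : ∀ α, H α C.e1 = 0 → H α y = 0
      · obtain ⟨c, hc⟩ := exists_smul_of_orth (q := q) hline'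
        exact ⟨1, c, G.one_mem, by rw [app_one]; exact hc⟩
      · push Not at hline'
        obtain ⟨α, hα, hαy⟩ := hline'
        obtain ⟨α', hα', hαy'⟩ : ∃ α', H α' C.e1 = 0 ∧ H y C.f1 + H y α' ≠ 0 := by
          by_cases h0 : H y C.f1 = 0
          · exact ⟨α, hα, by rw [h0, zero_add]; exact fun h => hαy (H_eq_zero_comm.1 h)⟩
          · exact ⟨0, by simp, by simpa using h0⟩
        obtain ⟨τ, hτ⟩ := exists_trace (F := F) (q := q) (c := - H α' α') (by rw [map_neg, H_self_fixed])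
        have hq : IsQ q C.e1 α' τ := ⟨C.h11, hα', by linear_combination hτ⟩
        set g1 := qE C.e1 α' τ hq * g' with hg1
        have hxy : H y (app g1 C.e1) ≠ 0 := by
          intro h
          apply hαy'
          have e : app (qE C.e1 α' τ hq) C.f1 = a • app g1 C.e1 := by
            conv_lhs => rw [hfe, app_smul]
            rw [hg1, app_mul]
          have h2 := congrArg (fun z => H y z) e
          simp only [H_smul_right, h, mul_zero] at h2
          rw [qE_apply, C.g11] at h2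
          simp [hye] at h2
          exact h2
        have hg1G : g1 ∈ G := G.mul_mem (hU _ _ hq) hg'
        obtain ⟨g, c, hg, he⟩ := hnonorth (app g1⁻¹ y) (by rw [app_H, hyy]) (by
          have := app_H g1 (app g1⁻¹ y) C.e1
          rw [app_inv'] at this
          rwa [← this])
        refine ⟨g1 * g, c, G.mul_mem hg1G hg, ?_⟩
        rw [app_mul, ← app_smul, ← he, app_inv']
    · exact hnonorth y hyy hye
  rw [eq_top_iff, ← FormsLib.closure_unitaryTransvection hF n (fun h => by omega), Subgroup.closure_le]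
  rintro A ⟨y, a, hy, hA⟩
  have happ : ∀ z : V, app A z = z + (a * H z y) • y := by
    intro z
    show ((A : Matrix.SpecialLinearGroup (Fin n) F) : Matrix (Fin n) (Fin n) F) *ᵥ z = _
    rw [hA, Cfsg.unitaryTransvection, Matrix.add_mulVec, Matrix.one_mulVec, Matrix.smul_mulVec,
      Matrix.vecMulVec_mulVec]
    funext i
    simp only [Pi.add_apply, Pi.smul_apply, op_smul_eq_mul, smul_eq_mul, H_def, dotProduct]
    rw [Finset.sum_congr rfl fun j _ => mul_comm (y j ^ q) (z j)]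
    ring
  by_cases hy0 : y = 0
  · have : A = 1 := su_ext fun z => by
      show app A z = app (1 : Cfsg.SU n F q) z
      rw [happ, app_one, hy0]; simp
    rw [this]; exact G.one_mem
  have ha : a + σ a = 0 := by
    obtain ⟨z, hz⟩ := exists_H_eq_one (q := q) hy0
    have hyz : H y z = 1 := by rw [← H_flip z y, hz, map_one]
    have h1 := app_H A z z
    rw [happ, hz] at h1
    simp [hy, hz, hyz] at h1
    linear_combination h1
  obtain ⟨g, c, hg, hyg⟩ := htrans y hy
  have hs : IsT q C.e1 (c * σ c * a) := ⟨C.h11, by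
    simp only [map_mul, qb_qb]
    linear_combination (c * σ c) * ha⟩
  have : A = g * tr C.e1 (c * σ c * a) hs * g⁻¹ := su_ext fun z => by
    show app A z = app _ z
    rw [happ, tr_conj, tr_apply, hyg, H_smul_right, smul_smul]
    congr 2
    ring
  rw [this]
  exact G.mul_mem (G.mul_mem hg (hcent _ hs)) (G.inv_mem hg)

omit C in
/-- Three conjugate regular unipotent elements generate. -/
theorem exists_three (hn : 5 ≤ n) (hF : Fintype.card F = q ^ 2) :
    ∃ u g h : Cfsg.SU n F q,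
      (IsNilpotent (((u : Matrix.SpecialLinearGroup (Fin n) F) : Matrix (Fin n) (Fin n) F) - 1) ∧
        (((u : Matrix.SpecialLinearGroup (Fin n) F) : Matrix (Fin n) (Fin n) F) - 1) ^ (n - 1) ≠ 0) ∧
      Subgroup.closure ({u, g * u * g⁻¹, h * u * h⁻¹} : Set (Cfsg.SU n F q)) = ⊤ := by
  classical
  obtain ⟨u, hN, hN'⟩ := exists_regular (F := F) (q := q) (n := n) (by omega)
  obtain ⟨C⟩ := exists_chain hn u hN hN'
  obtain ⟨g, hg2, hgf, hg1⟩ := exists_g C
  set v := g * u * g⁻¹ with hvdef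
  have hginv : ∀ {x y : V}, app g x = y → app g⁻¹ y = x := fun {x y} h => by rw [← h, app_inv]
  have hve : app v C.e1 = C.f2 := by
    rw [hvdef, app_mul, app_mul, hginv hg2, C.ue, app_add, hg2, hg1]; abel
  set z := app v C.e2 with hz
  have he1z : H C.e1 z = -1 := by
    rw [hz, hvdef, app_mul, app_mul, hginv hgf]
    have h0 := app_H g C.e2 (app u C.f1)
    rw [hg2] at h0
    rw [h0]
    have h1 := app_H u C.f1 C.e2
    rw [C.ue, H_add_right, C.g12] at h1
    have h2 := app_H u C.f1 C.e1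
    rw [C.uu, C.g11] at h2
    rw [h2] at h1
    rw [← H_flip, eq_neg_of_add_eq_zero_left h1, map_neg, map_one]
  have hzf2 : H C.f2 z = 0 := by rw [← hve, hz, app_H, C.h12]
  -- the primitive scalar
  set PP := H ((Nl u ^ (n - 3)) C.f2) C.f2 with hPi
  obtain ⟨w, hw⟩ := IsCyclic.exists_generator (α := Fˣ)
  have htop : Subring.closure ({(w : F)} : Set F) = ⊤ := by
    refine eq_top_iff.2 fun x _ => ?_
    by_cases hx : x = 0
    · rw [hx]; exact zero_mem _
    · obtain ⟨k, hk⟩ := (Submonoid.mem_powers_iff _ _).1 (mem_powers_iff_mem_zpowers.2 (hw (Units.mk0 x hx)))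
      have := congrArg Units.val hk
      simp only [Units.val_pow_eq_pow_val, Units.val_mk0] at this
      rw [← this]
      exact pow_mem (Subring.subset_closure (Set.mem_singleton _)) k
  by_cases hPi0 : PP = 0
  · exfalso
    obtain ⟨a, ha, haN⟩ := C.top
    obtain ⟨b, hb, hbN⟩ := C.ima (a - H a C.e2 • C.f2) (by simp [ha, C.g21]) (by simp [C.g22])
    obtain ⟨c, hc⟩ := C.ker ((Nl u ^ (n - 2)) b) (by
      rw [← Nl_pow_succ', show n - 2 + 1 = n - 1 by omega, C.kill b hb])
    have h1 := congrArg (fun x => H ((Nl u ^ (n - 3)) x) C.f2) hbN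
    simp only [← Nl_pow_succ, show n - 3 + 1 = n - 2 by omega, hc, map_sub, map_smul, H_sub_left,
      H_smul_left, haN, C.e1f2, C.e2f2, ← hPi, hPi0] at h1
    simp at h1
  obtain ⟨Λ, hΛ, hskew⟩ : ∃ Λ : F, Subring.closure ({Λ} : Set F) = ⊤ ∧ Λ / PP + σ (Λ / PP) ≠ 0 := by
    by_cases h : (w : F) / PP + σ ((w : F) / PP) = 0
    · have htop' : Subring.closure ({(w : F) + 1} : Set F) = ⊤ := by
        refine top_le_iff.1 (htop ▸ Subring.closure_le.2 (Set.singleton_subset_iff.2 ?_))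
        have := sub_mem (Subring.subset_closure (Set.mem_singleton ((w : F) + 1))) (one_mem (Subring.closure {(w : F) + 1}))
        simpa using this
      refine ⟨(w : F) + 1, htop', fun h' => ?_⟩
      have h2 : (1 : F) / PP + σ (1 / PP) = 0 := by
        rw [add_div, map_add] at h'
        linear_combination h' - h
      have hfix : σ (w : F) = (w : F) := by
        rw [map_div₀] at h h2
        rw [map_one] at h2
        have hσPi : σ PP ≠ 0 := fun e => hPi0 ((map_eq_zero _).1 e)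
        field_simp at h h2
        refine mul_left_cancel₀ hPi0 ?_
        linear_combination h - (w : F) * h2
      obtain ⟨y, hy⟩ := qb_ne (F := F) (q := q)
      apply hy
      have : (RingHom.eqLocusField ((qb (F := F) q : F ≃+* F) : F →+* F) (RingHom.id F)).toSubring = ⊤ :=
        top_le_iff.1 (htop ▸ Subring.closure_le.2 (Set.singleton_subset_iff.2 hfix))
      exact (show y ∈ (RingHom.eqLocusField ((qb (F := F) q : F ≃+* F) : F →+* F) (RingHom.id F)).toSubring by
        rw [this]; trivial)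
    · exact ⟨w, htop, h⟩
  set t := Λ / PP with ht
  -- the seed
  obtain ⟨c, hc⟩ := exists_norm (F := F) (q := q) (c := -(t + σ t)) (by rw [map_neg, map_add, qb_qb, add_comm])
  set β := c • (C.w0 + H C.w0 z • C.e1) with hβ
  have he1w : H C.e1 C.w0 = 0 := H_eq_zero_comm.1 C.hw1
  have hβ1 : H β C.e1 = 0 := by simp [hβ, C.hw1, C.h11]
  have hβ2 : H β C.e2 = 0 := by simp [hβ, C.hw2, C.h12]
  have hβz : H β z = 0 := by simp [hβ, he1z]
  have hβf : H β C.f2 = 0 := by simp [hβ, C.hw4, C.e1f2]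
  have hββ : H β β = -(t + σ t) := by
    rw [← hc]
    simp [hβ, C.hww, C.hw1, he1w, C.h11]
    ring
  set b := app v⁻¹ β with hb
  have hvb : app v b = β := app_inv' v β
  have hbq : IsQ q C.e1 b t := by
    refine ⟨C.h11, ?_, ?_⟩
    · rw [← app_H v, hvb, hve, hβf]
    · rw [hb, app_H, hββ]; ring
  have hb2 : H b C.e2 = 0 := by rw [← app_H v, hvb, ← hz, hβz]
  obtain ⟨h, hh⟩ := exists_conj C hbq hb2
  refine ⟨u, g, h, ⟨⟨n, ?_⟩, ?_⟩, ?_⟩
  · have h1 := hN
    rw [Nl_pow, map_eq_zero_iff _ Matrix.toLinAlgEquiv'.injective] at h1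
    exact h1
  · intro h0
    exact hN' (by rw [Nl_pow, h0, map_zero])
  set G := Subgroup.closure ({u, g * u * g⁻¹, h * u * h⁻¹} : Set (Cfsg.SU n F q))
  have hu : u ∈ G := Subgroup.subset_closure (Or.inl rfl)
  have hv : v ∈ G := Subgroup.subset_closure (Or.inr (Or.inl rfl))
  have hX : qE C.e1 b t hbq ∈ G :=
    hh ▸ G.mul_mem (G.inv_mem hu) (Subgroup.subset_closure (Or.inr (Or.inr rfl)))
  refine closure_eq_top C hn hF G hu v hv hve hbq hX (fun s hs => hskew ?_) (by rw [hvb, hβ1]) (by rw [hvb, hβ2]) ?_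
  · have h1 := congrArg (app v) hs
    rw [hvb, app_smul, hve] at h1
    have h2 := hββ
    rw [h1, H_smul_left, H_smul_right, C.hf22] at h2
    linear_combination h2
  · rw [← hPi, ht, mul_div_cancel₀ _ hPi0]
    exact hΛ

end Cfsg.Agent.SUOddGen
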